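import Groth.Agent.GrLib8.Cutoff.Finite
import Groth.Agent.CplFib6.GeomRedFormal
import Groth.Agent.NagataLib.Localization
import Groth.Agent.N12Aux.Nagata
import Groth.Agent.S0576

/-!
# Formal fibres of Nagata local rings satisfy `(S₁)`
-/

set_option autoImplicit false
set_option linter.style.haveILetI false

universe u

open IsLocalRing
open scoped TensorProduct

namespace Groth.Agent.GrLib8.Cutoff

theorem hasSk_one_of_reduced (R : Type u) [CommRing R] [IsNoetherianRing R] [IsReduced R] :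
    LocCoh.HasSk 1 R R := by
  intro Q hQ
  rw [FlatLoc6.supportDim_self_atPrime]
  by_cases hmin : Q ∈ minimalPrimes R
  · refine (min_le_right _ _).trans ?_
    rw [Ideal.height_eq_zero_iff.2 hmin]
    exact WithBot.coe_le_coe.2 bot_le
  refine (min_le_left _ _).trans (WithBot.coe_le_coe.2 ?_)
  refine (Groth.Agent.Alg6.one_le_depth_atPrime_iff (M := R) Q).2 fun hass => ?_
  obtain ⟨-, z, hz⟩ := Groth.Agent.Alg6.mem_ass_iff.1 hass
  have hz0 : z = 0 := by
    have h : z ∈ nilradical R := by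
      rw [nilradical_eq_sInf, Submodule.mem_sInf]
      intro q hq
      haveI : Ideal.IsPrime q := hq
      obtain ⟨q₀, hq₀, hle⟩ := Ideal.exists_minimalPrimes_le (I := (⊥ : Ideal R)) (J := q) bot_le
      haveI := hq₀.1.1
      refine hle ?_
      obtain ⟨r, hr, hrq⟩ := SetLike.not_le_iff_exists.1 (fun h : Q ≤ q₀ => hmin (by
        rwa [le_antisymm h (hq₀.2 ⟨hQ, bot_le⟩ h)]))
      have h1 : r * z = 0 := (hz r).1 hr
      exact ((‹q₀.IsPrime›).mem_or_mem (h1 ▸ q₀.zero_mem)).resolve_left hrq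
    rwa [nilradical_eq_zero, Ideal.zero_eq_bot, Ideal.mem_bot] at h
  exact hQ.ne_top ((Ideal.eq_top_iff_one Q).2 ((hz 1).2 (by rw [hz0, smul_zero])))

theorem hasS1_of_nagata (A : Type u) [CommRing A] [IsLocalRing A] [IsNoetherianRing A] (hA : CAlg.IsNagata A) :
    EGA4.HasSnFormalFibres 1 A := by
  intro p hp
  haveI := FlatLoc6.isLocalRing_cpl A
  haveI := FlatLoc6.isNoetherianRing_cpl A
  haveI : IsLocalRing (A ⧸ p) := .of_surjective' (Ideal.Quotient.mk p) Ideal.Quotient.mk_surjective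
  haveI := S0576.result (A ⧸ p) (N12Aux.isNagata_of_surjective (Ideal.Quotient.mk p) Ideal.Quotient.mk_surjective hA)
  obtain ⟨e⟩ := FormalFib6.exists_cplQuotEquiv A (A ⧸ p) Ideal.Quotient.mk_surjective
  haveI h1 : IsReduced ((A ⧸ p) ⊗[A] EGA4.Cpl A) := isReduced_of_injective e e.injective
  haveI : IsReduced (EGA4.Cpl A ⊗[A] (A ⧸ p)) :=
    isReduced_of_injective (Algebra.TensorProduct.comm A (EGA4.Cpl A) (A ⧸ p))
      (Algebra.TensorProduct.comm A (EGA4.Cpl A) (A ⧸ p)).injective
  haveI h2 : IsReduced (EGA4.formalFibre A p) :=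
    CplFib6.isReduced_tensor_localization A (A ⧸ p) p.ResidueField (nonZeroDivisors (A ⧸ p)) (EGA4.Cpl A)
  haveI : IsNoetherianRing (EGA4.formalFibre A p) := FlatLoc6.isNoetherianRing_fiber p
  exact hasSk_one_of_reduced _

theorem finite_one_of_nagata {A : Type u} [CommRing A] [IsNoetherianRing A] (hN : CAlg.IsNagata A)
    (hU : CAlg.IsUniversallyCatenary A) (I : Ideal A) (M : Type u) [AddCommGroup M] [Module A M] [Module.Finite A M]
    (h : ∀ (p q : PrimeSpectrum A) (hpq : p ≤ q), p.asIdeal ∈ associatedPrimes A M → ¬ I ≤ p.asIdeal →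
      I ≤ q.asIdeal → (2 : ℕ∞) ≤ Order.height (⟨q, hpq⟩ : Set.Ici p)) :
    Module.Finite A (LocCoh.H I 1 M) :=
  finite_one I M hU (fun q _ => by
    haveI : IsNoetherianRing (Localization.AtPrime q.asIdeal) :=
      IsLocalization.isNoetherianRing q.asIdeal.primeCompl _ inferInstance
    exact hasS1_of_nagata _ (NagataLib.isNagata_of_isLocalization hN q.asIdeal.primeCompl _)) h

end Groth.Agent.GrLib8.Cutoff
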