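import Groth.Agent.GrLib8.Cutoff.Completion
import Groth.Agent.LC.AdjDepth
import Groth.Agent.CohenLib.PowerSeries
import Groth.Agent.RegLoc6.Serre
import Mathlib.RingTheory.Finiteness.Descent

/-!
# Finiteness of local cohomology below the cutoff
-/

set_option autoImplicit false
set_option linter.style.haveILetI false

universe u

open IsLocalRing CategoryTheory
open scoped TensorProduct

namespace Groth.Agent.GrLib8.Cutoff

variable {A : Type u} [CommRing A] [IsNoetherianRing A] (I : Ideal A) (M : Type u) [AddCommGroup M] [Module A M]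

theorem lt_cutoff_iff (n : ℕ) :
    (n : ℕ∞) < Dual2.cutoff A I M ↔ ∀ p : PrimeSpectrum A, ¬ I ≤ p.asIdeal → (n : ℕ∞) <
      LocCoh.depth (Localization.AtPrime p.asIdeal) (LocalizedModule p.asIdeal.primeCompl M) + SGA2.relCodim I p := by
  rw [Dual2.cutoff, LC.lt_iInf_nat_iff]
  refine forall_congr' fun p => ?_
  rw [LC.lt_iInf_nat_iff]
  simp only [LC.lt_iInf_nat_iff]
  constructor
  · intro h hp
    by_cases htop : I ⊔ p.asIdeal = ⊤
    · rw [LC.relCodim_eq I p, htop, Ideal.map_top, Ideal.height_top, add_top]; exact ENat.natCast_lt_top n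
    obtain ⟨q, hq, hqh⟩ := LC.exists_minimalPrimes_height_eq I p.asIdeal htop
    haveI := hq.1.1
    have h1 := h ⟨q, hq.1.1⟩ (show p.asIdeal ≤ q from le_sup_right.trans hq.1.2) hp (le_sup_left.trans hq.1.2)
    rwa [LC.height_Ici_eq p ⟨q, hq.1.1⟩ _, hqh, ← LC.relCodim_eq I p] at h1
  · intro h q hpq hp hq
    refine lt_of_lt_of_le (h hp) (add_le_add le_rfl ?_)
    rw [LC.relCodim_eq I p, LC.height_Ici_eq p q hpq]
    exact Ideal.height_mono (Ideal.map_mono (sup_le hq hpq))

variable [Module.Finite A M]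

theorem finite_of_complete [IsLocalRing A] [IsAdicComplete (maximalIdeal A) A] (n : ℕ)
    (hn : (n : ℕ∞) < Dual2.cutoff A I M) : ∀ i ≤ n, Module.Finite A (LocCoh.H I i M) := by
  obtain ⟨Λ, _, k, f, hΛ, hf⟩ := CohenLib.exists_surjective A (IsNoetherian.noetherian _)
  obtain ⟨_, hreg, -⟩ := CohenLib.isRegular_complete_mvPowerSeries hΛ k
  haveI := RegLoc6.isRegularRing_of_isRegularLocalRing (MvPowerSeries (Fin k) Λ)
  exact (LC.finite_iff_depth_add_codim f hf I M n).2 ((lt_cutoff_iff I M n).1 hn)

theorem not_finite_at (s : ℕ) (hs : Dual2.cutoff A I M = s)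
    (hfin : ∀ i < s, Module.Finite A (LocCoh.H I i M)) : ¬ Module.Finite A (LocCoh.H I s M) := by
  intro h
  have hall : ∀ i ≤ s, Module.Finite A (LocCoh.H I i M) := fun i hi =>
    hi.eq_or_lt.elim (fun e => e ▸ h) (hfin i)
  have h1 := lt_of_lt_of_le ((LC.finite_iff_finDimRel I M s).1 hall) (LC.finDimRel_le_minAdjDepth I I M)
  have h2 := (lt_cutoff_iff I M s).2 ((LC.lt_minAdjDepth_iff I M s).1 h1)
  rw [hs] at h2
  exact lt_irrefl _ h2

theorem cutoff_le_localization (m : Ideal A) [m.IsPrime] :
    Dual2.cutoff A I M ≤ Dual2.cutoff (Localization.AtPrime m) (I.map (algebraMap A (Localization.AtPrime m)))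
      (LocalizedModule m.primeCompl M) := by
  let Am := Localization.AtPrime m
  let e := IsLocalization.AtPrime.primeSpectrumOrderIso Am m
  refine le_iInf fun P => le_iInf fun Q => le_iInf fun hPQ => le_iInf fun hP => le_iInf fun hQ => ?_
  let p := PrimeSpectrum.comap (algebraMap A Am) P
  let q := PrimeSpectrum.comap (algebraMap A Am) Q
  have hpq : p ≤ q := Ideal.comap_mono hPQ
  refine iInf_le_of_le p (iInf_le_of_le q (iInf_le_of_le hpq (iInf_le_of_le
    (fun h => hP (Ideal.map_le_iff_le_comap.2 h)) (iInf_le_of_le (Ideal.map_le_iff_le_comap.1 hQ) (add_le_add ?_ ?_)))))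
  · exact (Groth.Agent.Alg6.depth_locLoc m.primeCompl M P.asIdeal).ge
  · refine Order.height_le fun l hl => ?_
    have hle : ∀ k, (l k).1 ≤ q := fun k => by
      have h1 := l.monotone (Fin.le_last k)
      rw [show l (Fin.last _) = l.last from rfl, hl] at h1
      exact h1
    have hm : ∀ k, (l k).1 ≤ (⟨m, inferInstance⟩ : PrimeSpectrum A) := fun k =>
      (hle k).trans (e Q).2
    let c : Fin (l.length + 1) → Set.Ici P := fun k => ⟨e.symm ⟨(l k).1, hm k⟩, by
      show P ≤ _
      rw [← e.symm_apply_apply P]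
      exact e.symm.monotone (l k).2⟩
    have hc : StrictMono c := fun a b hab => e.symm.strictMono (l.strictMono hab)
    refine Order.length_le_height (p := LTSeries.mk l.length c hc) ?_
    show (c (Fin.last _)).1 ≤ Q
    rw [← e.symm_apply_apply Q]
    exact e.symm.monotone (hle _)

/-- Finiteness from the completions of the local rings. -/
theorem finite_of_lt_cutoff (hA : CAlg.IsUniversallyCatenary A) (n : ℕ)
    (hF : ∀ q : PrimeSpectrum A, I ≤ q.asIdeal → EGA4.HasSnFormalFibres n (Localization.AtPrime q.asIdeal))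
    (hn : (n : ℕ∞) < Dual2.cutoff A I M) : ∀ i ≤ n, Module.Finite A (LocCoh.H I i M) := by
  refine LC.finite_H_of_locally I n M fun m _ i hi => ?_
  let Am := Localization.AtPrime m
  haveI : IsNoetherianRing Am := IsLocalization.isNoetherianRing m.primeCompl _ inferInstance
  haveI : Module.Flat A Am := IsLocalization.flat _ m.primeCompl
  haveI : Module.Finite Am (LocalizedModule m.primeCompl M) :=
    Module.Finite.of_isLocalizedModule m.primeCompl (LocalizedModule.mkLinearMap _ M)
  obtain ⟨e⟩ := LC.exists_baseChange (R' := Am) I i M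
  let Im := I.map (algebraMap A Am)
  suffices hsuff : Module.Finite Am ((localCohomology Im i).obj (ModuleCat.of Am (LocalizedModule m.primeCompl M))) by
    let e' := ((localCohomology Im i).mapIso
      (LocalizedModule.equivTensorProduct m.primeCompl M).toModuleIso).toLinearEquiv
    exact Module.Finite.equiv ((e'.trans e.symm).trans
      (LocalizedModule.equivTensorProduct m.primeCompl ((localCohomology I i).obj (ModuleCat.of A M))).symm)
  by_cases hIm : I ≤ m
  swap
  · have htop : Im = ⊤ := by
      obtain ⟨x, hx, hxm⟩ := SetLike.not_le_iff_exists.1 hIm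
      exact Ideal.eq_top_of_isUnit_mem _ (Ideal.mem_map_of_mem _ hx)
        (IsLocalization.map_units Am (⟨x, hxm⟩ : m.primeCompl))
    haveI : Subsingleton ((localCohomology Im i).obj (ModuleCat.of Am (LocalizedModule m.primeCompl M))) :=
      subsingleton_of_forall_eq 0 fun z => by
        obtain ⟨k, hk⟩ := LC.isPowerTorsion_obj Im i (ModuleCat.of Am (LocalizedModule m.primeCompl M)) z
        simpa using hk 1 (by rw [htop, Ideal.top_pow]; trivial)
    infer_instance
  let B := AdicCompletion (maximalIdeal Am) Am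
  haveI := FlatLoc6.isLocalRing_cpl Am
  haveI := FlatLoc6.isNoetherianRing_cpl Am
  haveI := FlatLoc6.faithfullyFlat_cpl Am
  haveI := FormCat.isAdicComplete_cpl Am
  have hB : (n : ℕ∞) < Dual2.cutoff B (Im.map (algebraMap Am B))
      (AdicCompletion (maximalIdeal Am) (LocalizedModule m.primeCompl M)) := by
    refine lt_of_lt_of_le (lt_min ?_ (lt_of_lt_of_le hn (cutoff_le_localization I M m)))
      (le_cutoff_completion Am Im (LocalizedModule m.primeCompl M)
        (DimFormula.isUniversallyCatenary_localization hA m.primeCompl Am) n (hF ⟨m, inferInstance⟩ hIm))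
    exact_mod_cast Nat.lt_succ_self n
  haveI : Module.Finite B (AdicCompletion (maximalIdeal Am) (LocalizedModule m.primeCompl M)) :=
    Module.Finite.equiv (tensorEquiv Am (LocalizedModule m.primeCompl M))
  have hfin := finite_of_complete _ _ n hB i hi
  obtain ⟨eB⟩ := LC.exists_baseChange (R' := B) Im i (LocalizedModule m.primeCompl M)
  let eB' := ((localCohomology (Im.map (algebraMap Am B)) i).mapIso
    (tensorEquiv Am (LocalizedModule m.primeCompl M)).toModuleIso).toLinearEquiv
  haveI : Module.Finite B (B ⊗[Am] (localCohomology Im i).obj (ModuleCat.of Am (LocalizedModule m.primeCompl M))) :=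
    Module.Finite.equiv (eB.trans eB').symm
  exact Module.Finite.of_finite_tensorProduct_of_faithfullyFlat B

theorem hasSn_of_CM {R : Type u} [CommRing R] [IsLocalRing R] [IsNoetherianRing R]
    (h : EGA4.HasCMFormalFibres R) (n : ℕ) : EGA4.HasSnFormalFibres n R := by
  intro p _ Q hQ
  haveI := h p
  have h1 := (LocCoh.IsCohenMacaulayRing.isCohenMacaulayLocalRing_localization
    (R := EGA4.formalFibre R p) Q).supportDim_eq_depth
  rw [FlatLoc6.supportDim_self_atPrime, FlatLoc6.depth_self_atPrime]
  refine (min_le_right _ _).trans (le_of_eq ?_)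
  rw [← IsLocalization.AtPrime.ringKrullDim_eq_height Q (Localization.AtPrime Q), ← Module.supportDim_self_eq_ringKrullDim]
  exact h1

theorem main (hA : CAlg.IsUniversallyCatenary A)
    (hF : ∀ q : PrimeSpectrum A, EGA4.HasCMFormalFibres (Localization.AtPrime q.asIdeal)) :
    (∀ i : ℕ, (i : ℕ∞) < Dual2.cutoff A I M → Module.Finite A (LocCoh.H I i M)) ∧
      ∀ s : ℕ, Dual2.cutoff A I M = s → ¬ Module.Finite A (LocCoh.H I s M) := by
  have h1 : ∀ i : ℕ, (i : ℕ∞) < Dual2.cutoff A I M → Module.Finite A (LocCoh.H I i M) := fun i hi =>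
    finite_of_lt_cutoff I M hA i (fun q _ =>
      haveI : IsNoetherianRing (Localization.AtPrime q.asIdeal) :=
        IsLocalization.isNoetherianRing q.asIdeal.primeCompl _ inferInstance
      hasSn_of_CM (hF q) i) hi i le_rfl
  exact ⟨h1, fun s hs => not_finite_at I M s hs fun i hi => h1 i (by rw [hs]; exact_mod_cast hi)⟩

theorem finite_one (hA : CAlg.IsUniversallyCatenary A)
    (hF : ∀ q : PrimeSpectrum A, I ≤ q.asIdeal → EGA4.HasSnFormalFibres 1 (Localization.AtPrime q.asIdeal))
    (h : ∀ (p q : PrimeSpectrum A) (hpq : p ≤ q), p.asIdeal ∈ associatedPrimes A M → ¬ I ≤ p.asIdeal →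
      I ≤ q.asIdeal → (2 : ℕ∞) ≤ Order.height (⟨q, hpq⟩ : Set.Ici p)) :
    Module.Finite A (LocCoh.H I 1 M) := by
  refine finite_of_lt_cutoff I M hA 1 hF (lt_of_lt_of_le (b := (2 : ℕ∞)) (by decide) ?_) 1 le_rfl
  refine le_iInf fun p => le_iInf fun q => le_iInf fun hpq => le_iInf fun hp => le_iInf fun hq => ?_
  by_cases hass : p.asIdeal ∈ associatedPrimes A M
  · exact (h p q hpq hass hp hq).trans le_add_self
  · have h1 : (1 : ℕ∞) ≤ Order.height (⟨q, hpq⟩ : Set.Ici p) := by
      rw [LC.height_Ici_eq p q hpq]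
      exact LC.one_le_height_map_mk p.asIdeal q.asIdeal (lt_of_le_of_ne hpq fun e => hp (e ▸ hq))
    exact (le_of_eq (by norm_num)).trans
      (add_le_add ((Groth.Agent.Alg6.one_le_depth_atPrime_iff (M := M) p.asIdeal).2 hass) h1)

end Groth.Agent.GrLib8.Cutoff
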