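import Groth.Prelude.Def_DualLC
import Groth.Agent.FormCat.Descent
import Groth.Agent.FormCat.Catenary
import Groth.Agent.FlatLoc6.FiberComp
import Groth.Agent.FlatLoc6.FiberSelf
import Groth.Agent.FlatLoc6.NormalAscent
import Groth.Agent.PopescuLib.Ratliff
import Groth.Agent.LC.CompleteCatenary
import Groth.Agent.LC.FiniteCrit
import Mathlib.RingTheory.AdicCompletion.AsTensorProduct

/-!
# The depth-plus-codimension invariant under completion
-/

set_option autoImplicit false
set_option linter.style.haveILetI false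

universe u

open IsLocalRing
open scoped TensorProduct

namespace Groth.Agent.GrLib8.Cutoff

theorem qd_add_height_le {A : Type u} [CommRing A] [IsLocalRing A] [IsNoetherianRing A] (p q : Ideal A)
    [p.IsPrime] [q.IsPrime] (h : p ≤ q) :
    (q.map (Ideal.Quotient.mk p)).height + (FormCat.qd A q : ℕ∞) ≤ (FormCat.qd A p : ℕ∞) := by
  have key : ∀ (x : Ideal A) [x.IsPrime],
      ((maximalIdeal A).map (Ideal.Quotient.mk x)).height = (FormCat.qd A x : ℕ∞) := by
    intro x _
    haveI : IsLocalRing (A ⧸ x) := .of_surjective' (Ideal.Quotient.mk x) Ideal.Quotient.mk_surjective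
    rw [IsLocalRing.map_maximalIdeal_of_surjective _ Ideal.Quotient.mk_surjective]
    have h1 := (IsLocalRing.maximalIdeal_height_eq_ringKrullDim (R := A ⧸ x)).trans
      (FormCat.coe_qd A x (Ideal.IsPrime.ne_top inferInstance))
    exact_mod_cast h1
  rw [← key p, ← key q]
  exact LC.height_map_mk_add_le p q (maximalIdeal A) h (le_maximalIdeal (Ideal.IsPrime.ne_top inferInstance))

theorem height_map_mk_eq_qd {B : Type u} [CommRing B] [IsLocalRing B] [IsNoetherianRing B]
    [IsAdicComplete (maximalIdeal B) B] (P Q : Ideal B) [P.IsPrime] [Q.IsPrime] (h : P ≤ Q) :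
    ∃ t : ℕ, (Q.map (Ideal.Quotient.mk P)).height = t ∧ FormCat.qd B P = FormCat.qd B Q + t := by
  have h1 := LC.dim_quot_eq_add_height P Q h
  rw [FormCat.coe_qd B P (Ideal.IsPrime.ne_top inferInstance),
    FormCat.coe_qd B Q (Ideal.IsPrime.ne_top inferInstance)] at h1
  haveI : (Q.map (Ideal.Quotient.mk P)).IsPrime :=
    Ideal.map_isPrime_of_surjective Ideal.Quotient.mk_surjective (by rw [Ideal.mk_ker]; exact h)
  obtain ⟨t, ht⟩ := ENat.ne_top_iff_exists.1
    (Ideal.height_ne_top (I := Q.map (Ideal.Quotient.mk P)) (Ideal.IsPrime.ne_top inferInstance))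
  rw [← ht] at h1
  exact ⟨t, ht.symm, by exact_mod_cast h1⟩

/-- The dimension of a component of the completed quotient. -/
theorem qd_minimal_eq (A : Type u) [CommRing A] [IsLocalRing A] [IsNoetherianRing A]
    (hA : CAlg.IsUniversallyCatenary A) (p : Ideal A) [p.IsPrime] (P : Ideal (EGA4.Cpl A))
    (hP : P ∈ (p.map (algebraMap A (EGA4.Cpl A))).minimalPrimes) :
    haveI := FlatLoc6.isLocalRing_cpl A
    FormCat.qd (EGA4.Cpl A) P = FormCat.qd A p := by
  haveI := FlatLoc6.isLocalRing_cpl A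
  haveI := FlatLoc6.isNoetherianRing_cpl A
  haveI : IsLocalRing (A ⧸ p) := .of_surjective' (Ideal.Quotient.mk p) Ideal.Quotient.mk_surjective
  haveI := hP.1.1
  obtain ⟨n, hn⟩ : ∃ n : ℕ, ringKrullDim (A ⧸ p) = n := ⟨_, FormCat.coe_qd A p (Ideal.IsPrime.ne_top inferInstance)⟩
  have hfe := (FormCat.isFormallyEquidim_quotient_iff A p).1
    (PopescuLib.Ratliff.isFormallyEquidim_of_dim_le n (A ⧸ p)
      (DimFormula.isUniversallyCatenary_of_surjective hA (Ideal.Quotient.mk p) Ideal.Quotient.mk_surjective) hn.le)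
  let π := Ideal.Quotient.mk (p.map (algebraMap A (EGA4.Cpl A)))
  rw [Ideal.minimalPrimes_eq_comap] at hP
  obtain ⟨x, hx, hxP⟩ := hP
  have h1 := hfe x hx
  rw [FormCat.ringKrullDim_cpl_quotient, hn] at h1
  have hk : RingHom.ker ((Ideal.Quotient.mk x).comp π) = P := by
    rw [← RingHom.comap_ker, Ideal.mk_ker, ← hxP]
  have h2 : ringKrullDim (EGA4.Cpl A ⧸ P) = ringKrullDim ((EGA4.Cpl A ⧸ p.map (algebraMap A (EGA4.Cpl A))) ⧸ x) :=
    ringKrullDim_eq_of_ringEquiv ((Ideal.quotEquivOfEq hk.symm).trans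
      (RingHom.quotientKerEquivOfSurjective (Ideal.Quotient.mk_surjective.comp Ideal.Quotient.mk_surjective)))
  rw [h1, FormCat.coe_qd (EGA4.Cpl A) P (Ideal.IsPrime.ne_top inferInstance)] at h2
  rw [FormCat.coe_qd A p (Ideal.IsPrime.ne_top inferInstance)] at hn
  exact_mod_cast h2.trans hn.symm

/-- Intervals over a minimal point of the fibre sit inside the fibre. -/
theorem height_map_mk_le_fibDim {A B : Type u} [CommRing A] [CommRing B] [IsNoetherianRing B] [Algebra A B]
    (P p' : Ideal B) [P.IsPrime] [hp' : p'.IsPrime] (h : P ≤ p')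
    (hP : (p'.comap (algebraMap A B)).map (algebraMap A B) ≤ P) :
    (((p'.map (Ideal.Quotient.mk P)).height : ℕ∞) : WithBot ℕ∞) ≤ FlatLoc6.fibDim A p' B := by
  rw [FlatLoc6.fibDim_self, ← LC.height_Ici_eq (⟨P, inferInstance⟩ : PrimeSpectrum B) ⟨p', hp'⟩ h,
    Order.height_eq_krullDim_Iic, ringKrullDim_quotient]
  let e := IsLocalization.AtPrime.primeSpectrumOrderIso (Localization.AtPrime p') p'
  let P0 : PrimeSpectrum B := ⟨P, inferInstance⟩
  let g : Set.Iic (⟨⟨p', hp'⟩, h⟩ : Set.Ici P0) → PrimeSpectrum.zeroLocus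
      (R := Localization.AtPrime p') ((p'.comap (algebraMap A B)).map (algebraMap A (Localization.AtPrime p')) : Set (Localization.AtPrime p')) :=
    fun x => ⟨e.symm ⟨x.1.1, x.2⟩, by
      have hc : (e.symm ⟨x.1.1, x.2⟩).asIdeal.comap (algebraMap B (Localization.AtPrime p')) = x.1.1.asIdeal :=
        congrArg (fun z : Set.Iic _ => z.1.asIdeal) (e.apply_symm_apply ⟨x.1.1, x.2⟩)
      rw [PrimeSpectrum.mem_zeroLocus, SetLike.coe_subset_coe, IsScalarTower.algebraMap_eq A B (Localization.AtPrime p'),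
        ← Ideal.map_map, Ideal.map_le_iff_le_comap, hc]
      exact hP.trans x.1.2⟩
  exact Order.krullDim_le_of_strictMono g fun x y hxy => Subtype.coe_lt_coe.1
    (e.symm.strictMono (show (⟨x.1.1, x.2⟩ : Set.Iic _) < ⟨y.1.1, y.2⟩ from hxy))

variable (A : Type u) [CommRing A] [IsLocalRing A] [IsNoetherianRing A] (I : Ideal A) (M : Type u)
  [AddCommGroup M] [Module A M] [Module.Finite A M]

/-- The completed module as a base change. -/
noncomputable def tensorEquiv :
    (EGA4.Cpl A ⊗[A] M) ≃ₗ[EGA4.Cpl A] AdicCompletion (maximalIdeal A) M :=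
  AdicCompletion.ofTensorProductEquivOfFiniteNoetherian (maximalIdeal A) M

theorem depth_formula (p' : Ideal (EGA4.Cpl A)) [p'.IsPrime] (hp : (⟨p'.comap (algebraMap A (EGA4.Cpl A)), inferInstance⟩ : PrimeSpectrum A) ∈ Module.support A M) :
    LocCoh.depth (Localization.AtPrime p') (LocalizedModule p'.primeCompl (AdicCompletion (maximalIdeal A) M)) =
      LocCoh.depth (Localization.AtPrime (p'.comap (algebraMap A (EGA4.Cpl A))))
        (LocalizedModule (p'.comap (algebraMap A (EGA4.Cpl A))).primeCompl M) + FlatLoc6.fibDepth A p' (EGA4.Cpl A) := by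
  haveI := FlatLoc6.isLocalRing_cpl A
  haveI := FlatLoc6.isNoetherianRing_cpl A
  haveI := FlatLoc6.faithfullyFlat_cpl A
  have hB : (⟨p', ‹_›⟩ : PrimeSpectrum (EGA4.Cpl A)) ∈ Module.support (EGA4.Cpl A) (EGA4.Cpl A) := by
    rw [Module.mem_support_iff]
    exact (LC.selfLoc p'.primeCompl).toEquiv.nontrivial
  let e : LocalizedModule p'.primeCompl (EGA4.Cpl A ⊗[A] M) ≃ₗ[Localization.AtPrime p']
      LocalizedModule p'.primeCompl (AdicCompletion (maximalIdeal A) M) :=
    IsLocalizedModule.mapEquiv p'.primeCompl (LocalizedModule.mkLinearMap _ _) (LocalizedModule.mkLinearMap _ _)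
      (Localization.AtPrime p') (tensorEquiv A M)
  rw [← Hensel.depth_congr e]
  exact (FlatLoc6.formulas_atPrime (EGA4.Cpl A) M (p'.comap (algebraMap A (EGA4.Cpl A))) p' rfl hB hp).1

theorem depth_eq_top_of_notMem (p : PrimeSpectrum A) (hp : p ∉ Module.support A M) :
    LocCoh.depth (Localization.AtPrime p.asIdeal) (LocalizedModule p.asIdeal.primeCompl M) = ⊤ := by
  haveI := Module.notMem_support_iff.1 hp
  rw [LocCoh.depth, LocCoh.idealDepth, if_pos (Subsingleton.elim _ _)]

theorem cutoff_completion_le :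
    Dual2.cutoff (AdicCompletion (maximalIdeal A) A) (I.map (algebraMap A (AdicCompletion (maximalIdeal A) A)))
      (AdicCompletion (maximalIdeal A) M) ≤ Dual2.cutoff A I M := by
  haveI := FlatLoc6.isLocalRing_cpl A
  haveI := FlatLoc6.isNoetherianRing_cpl A
  haveI := FlatLoc6.faithfullyFlat_cpl A
  let B := EGA4.Cpl A
  refine le_iInf fun p => le_iInf fun q => le_iInf fun hpq => le_iInf fun hp => le_iInf fun hq => ?_
  obtain ⟨q₀, hq₀⟩ := PrimeSpectrum.comap_surjective_of_faithfullyFlat (A := A) (B := B) q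
  have hq₀' : q₀.asIdeal.comap (algebraMap A B) = q.asIdeal := congrArg PrimeSpectrum.asIdeal hq₀
  obtain ⟨Q, hQ, -⟩ := Ideal.exists_minimalPrimes_le (J := q₀.asIdeal)
    (Ideal.map_le_iff_le_comap.2 hq₀'.ge : q.asIdeal.map (algebraMap A B) ≤ q₀.asIdeal)
  haveI := hQ.1.1
  have hQc := FormCat.under_eq_of_mem_minimalPrimes q.asIdeal hQ
  obtain ⟨P, hPp, hPQ, hPc, -, hP0⟩ := FlatLoc6.exists_fib_zero_le (A := A) Q p.asIdeal
    (le_of_le_of_eq hpq hQc.symm)
  refine iInf_le_of_le ⟨P, hPp⟩ (iInf_le_of_le ⟨Q, inferInstance⟩ (iInf_le_of_le hPQ (iInf_le_of_le ?_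
    (iInf_le_of_le ?_ ?_))))
  · intro hle
    exact hp ((Ideal.map_le_iff_le_comap.1 hle).trans hPc.le)
  · exact (Ideal.map_mono hq).trans hQ.1.2
  refine add_le_add ?_ ?_
  · by_cases hs : p ∈ Module.support A M
    · have h1 := depth_formula A M P (by
        rw [show (⟨P.comap (algebraMap A (EGA4.Cpl A)), inferInstance⟩ : PrimeSpectrum A) = p from PrimeSpectrum.ext hPc]
        exact hs)
      rw [hP0, add_zero] at h1
      refine h1.le.trans (le_of_eq ?_)
      have key : ∀ (x : Ideal A) [x.IsPrime], x = p.asIdeal →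
          LocCoh.depth (Localization.AtPrime x) (LocalizedModule x.primeCompl M) =
            LocCoh.depth (Localization.AtPrime p.asIdeal) (LocalizedModule p.asIdeal.primeCompl M) := by
        intro x _ hx
        subst hx
        rfl
      exact key _ hPc
    · rw [depth_eq_top_of_notMem A M p hs]
      exact le_top
  · rw [LC.height_Ici_eq (⟨P, hPp⟩ : PrimeSpectrum B) ⟨Q, inferInstance⟩ hPQ, LC.height_Ici_eq p q hpq]
    exact FormCat.height_map_mk_le p.asIdeal q.asIdeal hpq P Q hQ hQc (Ideal.map_le_iff_le_comap.2 hPc.ge) hPQ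

theorem le_cutoff_completion (hA : CAlg.IsUniversallyCatenary A) (n : ℕ)
    (hF : EGA4.HasSnFormalFibres n A) :
    min ((n : ℕ∞) + 1) (Dual2.cutoff A I M) ≤
      Dual2.cutoff (AdicCompletion (maximalIdeal A) A) (I.map (algebraMap A (AdicCompletion (maximalIdeal A) A)))
        (AdicCompletion (maximalIdeal A) M) := by
  haveI := FlatLoc6.isLocalRing_cpl A
  haveI := FlatLoc6.isNoetherianRing_cpl A
  haveI := FlatLoc6.faithfullyFlat_cpl A
  haveI := FormCat.isAdicComplete_cpl A
  let B := EGA4.Cpl A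
  refine le_iInf fun p' => le_iInf fun q' => le_iInf fun hpq => le_iInf fun hp => le_iInf fun hq => ?_
  let p := PrimeSpectrum.comap (algebraMap A B) p'
  let q := PrimeSpectrum.comap (algebraMap A B) q'
  have hpq0 : p ≤ q := Ideal.comap_mono hpq
  by_cases hs : p ∈ Module.support A M
  swap
  · have ht : LocCoh.depth (Localization.AtPrime p'.asIdeal)
        (LocalizedModule p'.asIdeal.primeCompl (AdicCompletion (maximalIdeal A) M)) = ⊤ := by
      haveI : Subsingleton (LocalizedModule p'.asIdeal.primeCompl (AdicCompletion (maximalIdeal A) M)) := by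
        refine Module.notMem_support_iff.1 fun hc => hs ?_
        rw [← (tensorEquiv A M).support_eq] at hc
        exact ((FlatLoc6.mem_support_tensor_iff (A := A) (B := B) (N := B) (M := M) p').1 hc).2
      rw [LocCoh.depth, LocCoh.idealDepth, if_pos (Subsingleton.elim _ _)]
    rw [ht, top_add]
    exact le_top
  have hcut : Dual2.cutoff A I M ≤
      LocCoh.depth (Localization.AtPrime p.asIdeal) (LocalizedModule p.asIdeal.primeCompl M) +
        Order.height (⟨q, hpq0⟩ : Set.Ici p) :=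
    iInf_le_of_le p (iInf_le_of_le q (iInf_le_of_le hpq0 (iInf_le_of_le
      (fun h => hp (Ideal.map_le_iff_le_comap.2 h)) (iInf_le_of_le (Ideal.map_le_iff_le_comap.1 hq) le_rfl))))
  rw [depth_formula A M p'.asIdeal hs, LC.height_Ici_eq p' q' hpq]
  rw [LC.height_Ici_eq p q hpq0] at hcut
  -- the numbers
  obtain ⟨P, hPmin, hPp'⟩ := Ideal.exists_minimalPrimes_le (J := p'.asIdeal)
    (Ideal.map_comap_le : p.asIdeal.map (algebraMap A B) ≤ p'.asIdeal)
  haveI := hPmin.1.1
  obtain ⟨t, ht, hqt⟩ := height_map_mk_eq_qd p'.asIdeal q'.asIdeal hpq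
  obtain ⟨t₀, ht₀, hpt⟩ := height_map_mk_eq_qd P p'.asIdeal hPp'
  have hP : FormCat.qd B P = FormCat.qd A p.asIdeal := qd_minimal_eq A hA p.asIdeal P hPmin
  have hA2 := qd_add_height_le p.asIdeal q.asIdeal hpq0
  have hq2 : FormCat.qd B q'.asIdeal ≤ FormCat.qd A q.asIdeal := by
    haveI : IsLocalRing (A ⧸ q.asIdeal) := .of_surjective' (Ideal.Quotient.mk q.asIdeal) Ideal.Quotient.mk_surjective
    have h := ringKrullDim_le_of_surjective (Ideal.Quotient.factor
      (Ideal.map_comap_le : q.asIdeal.map (algebraMap A B) ≤ q'.asIdeal)) (Ideal.Quotient.factor_surjective _)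
    rw [FormCat.ringKrullDim_cpl_quotient, FormCat.coe_qd B q'.asIdeal q'.2.ne_top,
      show ringKrullDim (A ⧸ q'.asIdeal.comap (algebraMap A B)) = _ from FormCat.coe_qd A q.asIdeal q.2.ne_top] at h
    exact_mod_cast h
  obtain ⟨c, hc⟩ : ∃ c : ℕ, (q.asIdeal.map (Ideal.Quotient.mk p.asIdeal)).height = c :=
    ENat.ne_top_iff_exists.1 (fun h => by rw [h, top_add] at hA2; simp at hA2) |>.imp fun _ h => h.symm
  rw [hc] at hA2 hcut
  have hA3 : c + FormCat.qd A q.asIdeal ≤ FormCat.qd A p.asIdeal := by exact_mod_cast hA2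
  have hqt' : FormCat.qd B p'.asIdeal = FormCat.qd B q'.asIdeal + t := hqt
  have hpt' : FormCat.qd B P = FormCat.qd B p'.asIdeal + t₀ := hpt
  have hct : c ≤ t + t₀ := by omega
  have hfd := height_map_mk_le_fibDim (A := A) P p'.asIdeal hPp' hPmin.1.2
  rw [ht₀] at hfd
  have ht1 : 1 ≤ t := by
    by_contra h0
    have h00 : t = 0 := by omega
    have hlt : p' < q' := lt_of_le_of_ne hpq fun e => hp (e ▸ hq)
    have h1 := LC.one_le_height_map_mk p'.asIdeal q'.asIdeal hlt
    rw [ht, h00] at h1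
    simp at h1
  rw [ht]
  have hSn := FlatLoc6.fib_le_of_fiber_hasSk n p.asIdeal p'.asIdeal rfl (hF p.asIdeal)
  generalize hf : FlatLoc6.fibDepth A p'.asIdeal B = f at hSn ⊢
  rcases le_or_gt (n : ℕ∞) f with hnf | hnf
  · refine (min_le_left _ _).trans ?_
    calc (n : ℕ∞) + 1 ≤ f + (t : ℕ∞) := add_le_add hnf (by exact_mod_cast ht1)
      _ ≤ _ := by rw [add_assoc]; exact le_add_self
  · refine (min_le_right _ _).trans (hcut.trans ?_)
    rw [add_assoc]
    refine add_le_add le_rfl ?_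
    rcases min_le_iff.1 hSn with h | h
    · exact absurd (show (n : ℕ∞) ≤ f by exact_mod_cast h) (not_le.2 hnf)
    · have h3' : ((t₀ : ℕ∞) : WithBot ℕ∞) ≤ (f : WithBot ℕ∞) := hfd.trans h
      have h3 : (t₀ : ℕ∞) ≤ f := WithBot.coe_le_coe.1 h3'
      calc (c : ℕ∞) ≤ (t₀ : ℕ∞) + (t : ℕ∞) := by exact_mod_cast (show c ≤ t₀ + t by omega)
        _ ≤ _ := add_le_add h3 le_rfl

end Groth.Agent.GrLib8.Cutoff
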