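import Groth.Agent.GrLib8.Cutoff.Finite
import Groth.Agent.FinRestrict.Depth
import Groth.Agent.DimFormula.Basic
import Groth.Agent.DimFormula.Catenary
import Groth.Agent.DimFormula.Scheme

/-!
# The cutoff along finite maps
-/

set_option autoImplicit false
set_option linter.style.haveILetI false

universe u

open IsLocalRing
open scoped TensorProduct

namespace Groth.Agent.GrLib8.Cutoff

variable {A B : Type u} [CommRing A] [CommRing B] [Algebra A B] [Module.Finite A B]

/-- Heights of intervals only drop under a finite map. -/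
theorem height_comap_le (p q : PrimeSpectrum B) (h : p ≤ q) :
    Order.height (⟨q, h⟩ : Set.Ici p) ≤
      Order.height (⟨PrimeSpectrum.comap (algebraMap A B) q, Ideal.comap_mono h⟩ :
        Set.Ici (PrimeSpectrum.comap (algebraMap A B) p)) := by
  haveI : Algebra.IsIntegral A B := Algebra.IsIntegral.of_finite A B
  exact Order.height_le_height_apply_of_strictMono
    (fun x : Set.Ici p => (⟨PrimeSpectrum.comap (algebraMap A B) x.1, Ideal.comap_mono x.2⟩ :
      Set.Ici (PrimeSpectrum.comap (algebraMap A B) p)))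
    (fun x y hxy => Ideal.IsIntegral.comap_lt_comap (Subtype.coe_lt_coe.2 hxy)) _

theorem fd_eq_zero (P : Ideal B) [P.IsPrime] : DimFormula.fd A P = 0 := by
  let F := (P.under A).Fiber (B ⧸ P)
  let K := (P.under A).ResidueField
  haveI : Module.Finite K F := Module.Finite.base_change A K (B ⧸ P)
  haveI : IsArtinianRing F := isArtinian_of_tower K inferInstance
  have h : ringKrullDim F ≤ 0 := Ring.krullDimLE_iff.1 inferInstance
  show ((ringKrullDim F).unbotD 0).toNat = 0
  generalize ringKrullDim F = d at h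
  cases d with
  | bot => rfl
  | coe d =>
    have : d ≤ 0 := by exact_mod_cast h
    rw [nonpos_iff_eq_zero] at this
    subst this
    rfl

/-- The dimension formula for finite maps. -/
theorem height_eq_comap [IsNoetherianRing A] [IsNoetherianRing B] (hA : CAlg.IsUniversallyCatenary A)
    (p q : PrimeSpectrum B) (h : p ≤ q) :
    Order.height (⟨q, h⟩ : Set.Ici p) =
      Order.height (⟨PrimeSpectrum.comap (algebraMap A B) q, Ideal.comap_mono h⟩ :
        Set.Ici (PrimeSpectrum.comap (algebraMap A B) p)) := by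
  let P := p.asIdeal.under A
  haveI : IsDomain (B ⧸ p.asIdeal) := Ideal.Quotient.isDomain p.asIdeal
  haveI : IsDomain (A ⧸ P) := Ideal.Quotient.isDomain P
  haveI : p.asIdeal.LiesOver P := ⟨rfl⟩
  haveI : Module.Finite (A ⧸ P) (B ⧸ p.asIdeal) := Module.Finite.of_restrictScalars_finite A _ _
  haveI : FaithfulSMul (A ⧸ P) (B ⧸ p.asIdeal) :=
    (faithfulSMul_iff_algebraMap_injective _ _).2 Ideal.quotientMap_injective
  haveI : (q.asIdeal.map (Ideal.Quotient.mk p.asIdeal)).IsPrime :=
    Ideal.map_isPrime_of_surjective Ideal.Quotient.mk_surjective (by rw [Ideal.mk_ker]; exact h)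
  let q' : PrimeSpectrum (B ⧸ p.asIdeal) := ⟨q.asIdeal.map (Ideal.Quotient.mk p.asIdeal), inferInstance⟩
  have h1 := (DimFormula.dimension_formula (A := A ⧸ P) q').2
    (DimFormula.isUniversallyCatenary_localization
      (DimFormula.isUniversallyCatenary_of_surjective hA (Ideal.Quotient.mk P) Ideal.Quotient.mk_surjective)
      (q'.asIdeal.under (A ⧸ P)).primeCompl _)
  rw [fd_eq_zero, fd_eq_zero, Nat.cast_zero, add_zero, add_zero] at h1
  have hc : (PrimeSpectrum.comap (algebraMap (A ⧸ P) (B ⧸ p.asIdeal)) q').asIdeal =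
      (PrimeSpectrum.comap (algebraMap A B) q).asIdeal.map (Ideal.Quotient.mk P) := by
    have hq : q'.asIdeal.comap (Ideal.Quotient.mk p.asIdeal) = q.asIdeal := by
      show (q.asIdeal.map _).comap _ = _
      rw [Ideal.comap_map_of_surjective _ Ideal.Quotient.mk_surjective, ← RingHom.ker_eq_comap_bot, Ideal.mk_ker,
        sup_eq_left.2 (show p.asIdeal ≤ q.asIdeal from h)]
    rw [← Ideal.map_comap_of_surjective (Ideal.Quotient.mk P) Ideal.Quotient.mk_surjective
      (PrimeSpectrum.comap (algebraMap (A ⧸ P) (B ⧸ p.asIdeal)) q').asIdeal]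
    congr 1
    show (q'.asIdeal.comap (algebraMap (A ⧸ P) (B ⧸ p.asIdeal))).comap (Ideal.Quotient.mk P) = q.asIdeal.comap (algebraMap A B)
    rw [← hq, Ideal.comap_comap, Ideal.comap_comap]
    rfl
  rw [← PrimeSpectrum.height_eq_orderHeight, ← PrimeSpectrum.height_eq_orderHeight, hc] at h1
  rw [LC.height_Ici_eq p q h, LC.height_Ici_eq _ _ (Ideal.comap_mono h :
    PrimeSpectrum.comap (algebraMap A B) p ≤ PrimeSpectrum.comap (algebraMap A B) q)]
  exact h1

theorem cutoff_finite_eq [IsNoetherianRing A] [IsNoetherianRing B] (hA : CAlg.IsUniversallyCatenary A)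
    (I : Ideal A) (M : Type u) [AddCommGroup M] [Module B M] [Module A M] [IsScalarTower A B M]
    [Module.Finite B M] :
    Dual2.cutoff B (I.map (algebraMap A B)) M = Dual2.cutoff A I M := by
  haveI : Module.Finite A M := Module.Finite.trans B M
  haveI : Algebra.IsIntegral A B := Algebra.IsIntegral.of_finite A B
  refine le_antisymm (le_iInf fun P => le_iInf fun Q => le_iInf fun hPQ => le_iInf fun hP => le_iInf fun hQ => ?_) ?_
  · let S : Set (PrimeSpectrum B) := {p | p.asIdeal.comap (algebraMap A B) = P.asIdeal}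
    have hδ := FinRestrict.depth_eq_iInf_of_finite (B := B) M P.asIdeal
    rw [hδ, iInf_subtype']
    rcases isEmpty_or_nonempty S with hS | hS
    · haveI : IsEmpty {x : PrimeSpectrum B // x ∈ {q : PrimeSpectrum B | q.asIdeal.comap (algebraMap A B) = P.asIdeal}} := hS
      rw [iInf_of_empty, top_add]
      exact le_top
    obtain ⟨⟨p, hp⟩, hmin⟩ := ciInf_mem (fun x : S => LocCoh.depth (Localization.AtPrime x.1.asIdeal)
      (LocalizedModule x.1.asIdeal.primeCompl M))
    have hp' : p.asIdeal.comap (algebraMap A B) = P.asIdeal := hp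
    obtain ⟨q, hpq, hqp, hqc⟩ := Ideal.exists_ideal_over_prime_of_isIntegral Q.asIdeal p.asIdeal (hp'.trans_le hPQ)
    refine iInf_le_of_le p (iInf_le_of_le ⟨q, hqp⟩ (iInf_le_of_le hpq (iInf_le_of_le
      (fun hle => hP ((Ideal.map_le_iff_le_comap.1 hle).trans hp'.le)) (iInf_le_of_le
      (Ideal.map_le_iff_le_comap.2 (hQ.trans hqc.ge)) (add_le_add hmin.le ?_)))))
    obtain rfl : P = PrimeSpectrum.comap (algebraMap A B) p := PrimeSpectrum.ext hp'.symm
    obtain rfl : Q = PrimeSpectrum.comap (algebraMap A B) ⟨q, hqp⟩ := PrimeSpectrum.ext hqc.symm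
    exact height_comap_le p ⟨q, hqp⟩ hpq
  · refine le_iInf fun p => le_iInf fun q => le_iInf fun hpq => le_iInf fun hp => le_iInf fun hq => ?_
    refine iInf_le_of_le (PrimeSpectrum.comap (algebraMap A B) p) (iInf_le_of_le (PrimeSpectrum.comap (algebraMap A B) q)
      (iInf_le_of_le (Ideal.comap_mono hpq) (iInf_le_of_le (fun h => hp (Ideal.map_le_iff_le_comap.2 h))
        (iInf_le_of_le (Ideal.map_le_iff_le_comap.1 hq) (add_le_add ?_ (height_eq_comap hA p q hpq).ge)))))
    rw [FinRestrict.depth_eq_iInf_of_finite (B := B) M (PrimeSpectrum.comap (algebraMap A B) p).asIdeal]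
    exact iInf₂_le_of_le p rfl le_rfl

end Groth.Agent.GrLib8.Cutoff
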