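import Groth.Agent.GrLib8.Cutoff.Finite
import Groth.Agent.FormalFib6.Quot
import Groth.Agent.LC.AssFilt
import Mathlib.RingTheory.Ideal.Height

/-!
# Kollár's criterion for finiteness of first local cohomology
-/

set_option autoImplicit false
set_option linter.style.haveILetI false

universe u

open IsLocalRing CategoryTheory
open scoped TensorProduct

namespace Groth.Agent.GrLib8.Cutoff.Kollar

variable {A : Type u} [CommRing A] [IsNoetherianRing A] (I : Ideal A) (M : Type u) [AddCommGroup M] [Module A M]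

/-- No associated prime off `V(I)` of a completed stalk has a quotient of dimension at most one. -/
def Hyp : Prop :=
  ∀ q : PrimeSpectrum A, I ≤ q.asIdeal → ∀ P ∈ associatedPrimes (EGA4.Cpl (Localization.AtPrime q.asIdeal))
      (EGA4.Cpl (Localization.AtPrime q.asIdeal) ⊗[A] M),
    ¬ I.map (algebraMap A (EGA4.Cpl (Localization.AtPrime q.asIdeal))) ≤ P →
      (2 : WithBot ℕ∞) ≤ ringKrullDim (EGA4.Cpl (Localization.AtPrime q.asIdeal) ⧸ P)

theorem subsingleton_loc (i : ℕ) (m : Ideal A) [m.IsPrime] (hm : ¬ I ≤ m) :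
    Subsingleton (LocalizedModule m.primeCompl ((localCohomology I i).obj (ModuleCat.of A M))) := by
  obtain ⟨x, hx, hxm⟩ := SetLike.not_le_iff_exists.1 hm
  refine LocalizedModule.subsingleton_iff.2 fun z => ?_
  obtain ⟨k, hk⟩ := LC.isPowerTorsion_obj I i (ModuleCat.of A M) z
  exact ⟨x ^ k, fun h => hxm (Ideal.IsPrime.mem_of_pow_mem ‹_› k h), hk _ (Ideal.pow_mem_pow hx k)⟩

theorem height_max (B : Type u) [CommRing B] [IsLocalRing B] [IsNoetherianRing B] (P : PrimeSpectrum B)
    (h : P ≤ IsLocalRing.closedPoint B) :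
    ((Order.height (⟨IsLocalRing.closedPoint B, h⟩ : Set.Ici P) : ℕ∞) : WithBot ℕ∞) =
      ringKrullDim (B ⧸ P.asIdeal) := by
  haveI : IsLocalRing (B ⧸ P.asIdeal) :=
    .of_surjective' (Ideal.Quotient.mk P.asIdeal) Ideal.Quotient.mk_surjective
  rw [LC.height_Ici_eq P _ h,
    show ((IsLocalRing.closedPoint B).asIdeal.map (Ideal.Quotient.mk P.asIdeal)) = maximalIdeal (B ⧸ P.asIdeal) from
      IsLocalRing.map_maximalIdeal_of_surjective _ Ideal.Quotient.mk_surjective]
  exact IsLocalRing.maximalIdeal_height_eq_ringKrullDim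

variable [Module.Finite A M]

theorem local_finite (hM : Hyp I M) : ∀ (k : ℕ) (m : PrimeSpectrum A), m.asIdeal.height = (k : ℕ∞) →
    ∀ i ≤ 1, Module.Finite (Localization.AtPrime m.asIdeal)
      (LocalizedModule m.asIdeal.primeCompl ((localCohomology I i).obj (ModuleCat.of A M))) := by
  intro k
  induction k using Nat.strong_induction_on with
  | _ k ih =>
  intro m hk i hi
  by_cases hIm : I ≤ m.asIdeal
  swap
  · haveI := subsingleton_loc I M i m.asIdeal hIm
    infer_instance
  let Am := Localization.AtPrime m.asIdeal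
  haveI : IsNoetherianRing Am := IsLocalization.isNoetherianRing m.asIdeal.primeCompl _ inferInstance
  haveI : Module.Flat A Am := IsLocalization.flat _ m.asIdeal.primeCompl
  let B := EGA4.Cpl Am
  haveI := FlatLoc6.isLocalRing_cpl Am
  haveI := FlatLoc6.isNoetherianRing_cpl Am
  haveI := FlatLoc6.faithfullyFlat_cpl Am
  haveI := FormCat.isAdicComplete_cpl Am
  haveI : Module.Flat A B := Module.Flat.trans A Am B
  let H := fun j : ℕ => (localCohomology I j).obj (ModuleCat.of A M)
  suffices hB : ((1 : ℕ) : ℕ∞) < Dual2.cutoff B (I.map (algebraMap A B)) (B ⊗[A] M) by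
    have hfin := finite_of_complete _ _ 1 hB i hi
    obtain ⟨e⟩ := LC.exists_baseChange (R' := B) I i M
    haveI : Module.Finite B (B ⊗[A] H i) := Module.Finite.equiv e.symm
    haveI : Module.Finite B (B ⊗[Am] (Am ⊗[A] H i)) :=
      Module.Finite.equiv (TensorProduct.AlgebraTensorModule.cancelBaseChange A Am B B (H i)).symm
    haveI : Module.Finite Am (Am ⊗[A] H i) := Module.Finite.of_finite_tensorProduct_of_faithfullyFlat B
    exact Module.Finite.equiv (LocalizedModule.equivTensorProduct m.asIdeal.primeCompl (H i)).symm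
  let N := B ⊗[A] M
  refine lt_of_lt_of_le (b := (2 : ℕ∞)) (by decide) ?_
  refine le_iInf fun P => le_iInf fun Q => le_iInf fun hPQ => le_iInf fun hP => le_iInf fun hQ => ?_
  by_cases hQmax : Q.asIdeal = maximalIdeal B
  · obtain rfl : Q = IsLocalRing.closedPoint B := PrimeSpectrum.ext hQmax
    by_cases hass : P.asIdeal ∈ associatedPrimes B N
    · have h2 := hM m hIm P.asIdeal hass hP
      rw [← height_max B P hPQ] at h2
      exact (WithBot.coe_le_coe.1 h2).trans le_add_self
    · have h1 : (1 : ℕ∞) ≤ Order.height (⟨IsLocalRing.closedPoint B, hPQ⟩ : Set.Ici P) := by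
        rw [LC.height_Ici_eq P _ hPQ]
        exact LC.one_le_height_map_mk P.asIdeal _ (lt_of_le_of_ne hPQ fun e => hP (by
          simp only [e]; exact hQ))
      exact (le_of_eq (by norm_num)).trans
        (add_le_add ((Groth.Agent.Alg6.one_le_depth_atPrime_iff (M := N) P.asIdeal).2 hass) h1)
  -- the trace of `Q` is a smaller prime
  let r := Q.asIdeal.comap (algebraMap Am B)
  have hr : r ≠ maximalIdeal Am := fun e => hQmax <| by
    refine le_antisymm (le_maximalIdeal Q.2.ne_top) ?_
    refine (AdicCompletion.maximalIdeal_eq_map (R := Am)).le.trans ?_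
    exact Ideal.map_le_iff_le_comap.2 e.ge
  let q : PrimeSpectrum A := ⟨Q.asIdeal.comap (algebraMap A B), inferInstance⟩
  have hqr : q.asIdeal = r.comap (algebraMap A Am) := by
    show Q.asIdeal.comap (algebraMap A B) = (Q.asIdeal.comap (algebraMap Am B)).comap (algebraMap A Am)
    rw [Ideal.comap_comap, ← IsScalarTower.algebraMap_eq]
  have hlt : q.asIdeal < m.asIdeal := by
    refine lt_of_le_of_ne ?_ fun e => hr ?_
    · rw [hqr]
      exact (Ideal.comap_mono (le_maximalIdeal (Ideal.IsPrime.ne_top inferInstance))).trans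
        (le_of_eq (Localization.AtPrime.comap_maximalIdeal (I := m.asIdeal)))
    · exact (IsLocalization.map_comap m.asIdeal.primeCompl Am r).symm.trans
        ((congrArg (Ideal.map (algebraMap A Am)) (hqr.symm.trans e)).trans Localization.AtPrime.map_eq_maximalIdeal)
  have hqk : q.asIdeal.height < m.asIdeal.height := Ideal.height_strict_mono_of_isPrime hlt
  rw [hk] at hqk
  obtain ⟨l, hl⟩ := ENat.ne_top_iff_exists.1 hqk.ne_top
  rw [← hl, Nat.cast_lt] at hqk
  have hfin := ih l hqk q hl.symm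
  let Aq := Localization.AtPrime q.asIdeal
  let L := Localization.AtPrime Q.asIdeal
  haveI : IsNoetherianRing L := IsLocalization.isNoetherianRing Q.asIdeal.primeCompl _ inferInstance
  haveI : Module.Flat B L := IsLocalization.flat _ Q.asIdeal.primeCompl
  haveI : Module.Flat A L := Module.Flat.trans A B L
  have hunit : ∀ s : q.asIdeal.primeCompl, IsUnit (algebraMap A L s) := fun s => by
    rw [IsScalarTower.algebraMap_apply A B L]
    exact IsLocalization.map_units L (⟨algebraMap A B s, s.2⟩ : Q.asIdeal.primeCompl)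
  let : Algebra Aq L := (IsLocalization.lift hunit).toAlgebra
  haveI : IsScalarTower A Aq L := IsScalarTower.of_algebraMap_eq fun x => (IsLocalization.lift_eq hunit x).symm
  let NQ := LocalizedModule Q.asIdeal.primeCompl N
  haveI : Module.Finite L NQ :=
    Module.Finite.of_isLocalizedModule Q.asIdeal.primeCompl (LocalizedModule.mkLinearMap _ N)
  let eN : NQ ≃ₗ[L] L ⊗[A] M := (LocalizedModule.equivTensorProduct Q.asIdeal.primeCompl N).trans
    (TensorProduct.AlgebraTensorModule.cancelBaseChange A B L L M)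
  let IL := I.map (algebraMap A L)
  have hLfin : ∀ j ≤ 1, Module.Finite L (LocCoh.H IL j NQ) := fun j hj => by
    haveI := hfin j hj
    haveI : Module.Finite Aq (Aq ⊗[A] H j) :=
      Module.Finite.equiv (LocalizedModule.equivTensorProduct q.asIdeal.primeCompl (H j))
    haveI : Module.Finite L (L ⊗[A] H j) :=
      Module.Finite.equiv (TensorProduct.AlgebraTensorModule.cancelBaseChange A Aq L L (H j))
    obtain ⟨e⟩ := LC.exists_baseChange (R' := L) I j M
    exact Module.Finite.equiv
      (e.trans ((localCohomology IL j).mapIso eN.toModuleIso).toLinearEquiv.symm)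
  have hL := lt_of_lt_of_le ((LC.finite_iff_finDimRel IL NQ 1).1 hLfin) (LC.finDimRel_le_minAdjDepth IL IL NQ)
  have hcut := (lt_cutoff_iff IL NQ 1).2 ((LC.lt_minAdjDepth_iff IL NQ 1).1 hL)
  have hdisj : Disjoint (Q.asIdeal.primeCompl : Set B) (P.asIdeal : Set B) :=
    Set.disjoint_left.2 fun x hx hxs => hx (hPQ hxs)
  haveI := IsLocalization.isPrime_of_isPrime_disjoint Q.asIdeal.primeCompl L P.asIdeal inferInstance hdisj
  have hc : (P.asIdeal.map (algebraMap B L)).comap (algebraMap B L) = P.asIdeal :=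
    IsLocalization.comap_map_of_isPrime_disjoint Q.asIdeal.primeCompl L inferInstance hdisj
  let P' : PrimeSpectrum L := ⟨P.asIdeal.map (algebraMap B L), inferInstance⟩
  have hP' : P' ≤ IsLocalRing.closedPoint L := le_maximalIdeal P'.2.ne_top
  have hnle : ¬ IL ≤ P'.asIdeal := fun hle => hP <| by
    rw [← hc, Ideal.map_le_iff_le_comap, Ideal.comap_comap, ← IsScalarTower.algebraMap_eq]
    exact Ideal.map_le_iff_le_comap.1 hle
  have hle : IL ≤ (IsLocalRing.closedPoint L).asIdeal := by
    show I.map _ ≤ maximalIdeal L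
    rw [IsScalarTower.algebraMap_eq A B L, ← Ideal.map_map, Ideal.map_le_iff_le_comap]
    exact hQ.trans (Localization.AtPrime.comap_maximalIdeal (I := Q.asIdeal)).ge
  have hkey : ((1 : ℕ) : ℕ∞) < LocCoh.depth (Localization.AtPrime P'.asIdeal) (LocalizedModule P'.asIdeal.primeCompl NQ) +
      Order.height (⟨IsLocalRing.closedPoint L, hP'⟩ : Set.Ici P') :=
    lt_of_lt_of_le hcut (iInf_le_of_le P' (iInf_le_of_le (IsLocalRing.closedPoint L) (iInf_le_of_le hP'
      (iInf_le_of_le hnle (iInf_le_of_le hle le_rfl)))))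
  have hd : LocCoh.depth (Localization.AtPrime P'.asIdeal) (LocalizedModule P'.asIdeal.primeCompl NQ) =
      LocCoh.depth (Localization.AtPrime P.asIdeal) (LocalizedModule P.asIdeal.primeCompl N) := by
    have key : ∀ (x : Ideal B) [x.IsPrime], x = P.asIdeal →
        LocCoh.depth (Localization.AtPrime x) (LocalizedModule x.primeCompl N) =
          LocCoh.depth (Localization.AtPrime P.asIdeal) (LocalizedModule P.asIdeal.primeCompl N) := by
      intro x _ hx
      subst hx
      rfl
    exact (Groth.Agent.Alg6.depth_locLoc Q.asIdeal.primeCompl N P'.asIdeal).trans (key _ hc)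
  have hh : Order.height (⟨IsLocalRing.closedPoint L, hP'⟩ : Set.Ici P') ≤ Order.height (⟨Q, hPQ⟩ : Set.Ici P) := by
    let g : Set.Ici P' → Set.Ici P := fun x => ⟨PrimeSpectrum.comap (algebraMap B L) x.1,
      (le_of_eq hc.symm).trans (Ideal.comap_mono x.2)⟩
    have hg : StrictMono g := fun x y hxy => lt_of_le_of_ne (Ideal.comap_mono hxy.le) fun e =>
      hxy.ne (Subtype.ext (PrimeSpectrum.localization_comap_injective L Q.asIdeal.primeCompl (congrArg Subtype.val e)))
    refine (Order.height_le_height_apply_of_strictMono g hg _).trans (le_of_eq ?_)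
    congr 1
    exact Subtype.ext (PrimeSpectrum.ext Localization.AtPrime.comap_maximalIdeal)
  rw [hd] at hkey
  have h2 := (ENat.add_one_le_iff (ENat.natCast_ne_top 1)).2 hkey
  exact (le_of_eq (by norm_num)).trans (h2.trans (add_le_add le_rfl hh))

/-- Kollár's criterion, in terms of the completed stalks of the module. -/
theorem finite_H1 (hM : Hyp I M) : Module.Finite A (LocCoh.H I 1 M) :=
  LC.finite_H_of_locally I 1 M (fun p hp i hi => by
    obtain ⟨k, hk⟩ := ENat.ne_top_iff_exists.1 (Ideal.height_ne_top (I := p) hp.ne_top)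
    exact local_finite I M hM k ⟨p, hp⟩ hk.symm i hi) 1 le_rfl

theorem finite_H1_self
    (h : ∀ q : PrimeSpectrum A, I ≤ q.asIdeal → ∀ P ∈ associatedPrimes (EGA4.Cpl (Localization.AtPrime q.asIdeal))
      (EGA4.Cpl (Localization.AtPrime q.asIdeal)),
      (2 : WithBot ℕ∞) ≤ ringKrullDim (EGA4.Cpl (Localization.AtPrime q.asIdeal) ⧸ P)) :
    Module.Finite A (LocCoh.H I 1 A) :=
  finite_H1 I A fun q hq P hP _ => h q hq P <| by
    rwa [← LinearEquiv.AssociatedPrimes.eq (TensorProduct.AlgebraTensorModule.rid A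
      (EGA4.Cpl (Localization.AtPrime q.asIdeal)) (EGA4.Cpl (Localization.AtPrime q.asIdeal)))]

theorem exists_ass_of_equiv {B C : Type u} [CommRing B] [CommRing C] (J : Ideal B) (e : B ⧸ J ≃+* C)
    (P : Ideal B) (hP : P ∈ associatedPrimes B (B ⧸ J)) :
    ∃ P' ∈ associatedPrimes C C, ringKrullDim (C ⧸ P') = ringKrullDim (B ⧸ P) := by
  obtain ⟨hPp, x, hx⟩ := hP
  let ψ : B →+* C := e.toRingHom.comp (Ideal.Quotient.mk J)
  have hψ : Function.Surjective ψ := e.surjective.comp Ideal.Quotient.mk_surjective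
  have hcol : ((⊥ : Submodule C C).colon {e x}).comap ψ = (⊥ : Submodule B (B ⧸ J)).colon {x} := by
    ext r
    rw [Ideal.mem_comap, Submodule.mem_colon_singleton, Submodule.mem_colon_singleton, Submodule.mem_bot,
      Submodule.mem_bot, smul_eq_mul]
    obtain ⟨y, rfl⟩ := Ideal.Quotient.mk_surjective x
    show e (Ideal.Quotient.mk J r) * e (Ideal.Quotient.mk J y) = 0 ↔ _
    rw [← map_mul, ← map_mul, map_eq_zero_iff e e.injective]
    rfl
  let P' := ((⊥ : Submodule C C).colon {e x}).radical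
  have hc : P'.comap ψ = P := by rw [Ideal.comap_radical, hcol, ← hx]
  have hk : RingHom.ker ψ ≤ P := by rw [← hc]; exact Ideal.comap_mono bot_le
  have hmap : P' = P.map ψ := by rw [← hc, Ideal.map_comap_of_surjective ψ hψ]
  haveI := hPp
  refine ⟨P', ⟨hmap ▸ Ideal.map_isPrime_of_surjective hψ hk, e x, rfl⟩, ?_⟩
  refine (ringKrullDim_eq_of_ringEquiv ?_).symm
  have hk2 : RingHom.ker ((Ideal.Quotient.mk P').comp ψ) = P := by
    rw [← RingHom.comap_ker, Ideal.mk_ker, hc]
  exact (Ideal.quotEquivOfEq hk2.symm).trans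
    (RingHom.quotientKerEquivOfSurjective (Ideal.Quotient.mk_surjective.comp hψ))

theorem dim_le_of_quot (p : Ideal A) [p.IsPrime] (q : PrimeSpectrum A) (hpq : p ≤ q.asIdeal)
    (h : ∀ P ∈ associatedPrimes
      (AdicCompletion ((maximalIdeal (Localization.AtPrime q.asIdeal)).map (Ideal.Quotient.mk (p.map (algebraMap A (Localization.AtPrime q.asIdeal))))) (Localization.AtPrime q.asIdeal ⧸ p.map (algebraMap A (Localization.AtPrime q.asIdeal))))
      (AdicCompletion ((maximalIdeal (Localization.AtPrime q.asIdeal)).map (Ideal.Quotient.mk (p.map (algebraMap A (Localization.AtPrime q.asIdeal))))) (Localization.AtPrime q.asIdeal ⧸ p.map (algebraMap A (Localization.AtPrime q.asIdeal)))),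
      (2 : WithBot ℕ∞) ≤ ringKrullDim (AdicCompletion ((maximalIdeal (Localization.AtPrime q.asIdeal)).map (Ideal.Quotient.mk (p.map (algebraMap A (Localization.AtPrime q.asIdeal))))) (Localization.AtPrime q.asIdeal ⧸ p.map (algebraMap A (Localization.AtPrime q.asIdeal))) ⧸ P)) :
    ∀ P ∈ associatedPrimes (EGA4.Cpl (Localization.AtPrime q.asIdeal))
      (EGA4.Cpl (Localization.AtPrime q.asIdeal) ⊗[A] (A ⧸ p)),
      (2 : WithBot ℕ∞) ≤ ringKrullDim (EGA4.Cpl (Localization.AtPrime q.asIdeal) ⧸ P) := by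
  let Aq := Localization.AtPrime q.asIdeal
  let pq := p.map (algebraMap A Aq)
  haveI : IsNoetherianRing Aq := IsLocalization.isNoetherianRing q.asIdeal.primeCompl _ inferInstance
  have hne : pq ≠ ⊤ := ne_top_of_le_ne_top (Ideal.IsPrime.ne_top inferInstance)
    ((Ideal.map_mono hpq).trans Localization.AtPrime.map_eq_maximalIdeal.le)
  haveI : Nontrivial (Aq ⧸ pq) := Ideal.Quotient.nontrivial_iff.2 hne
  haveI : IsLocalRing (Aq ⧸ pq) := .of_surjective' (Ideal.Quotient.mk pq) Ideal.Quotient.mk_surjective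
  have key : ∀ J : Ideal (Aq ⧸ pq), J = maximalIdeal (Aq ⧸ pq) →
      (∀ P ∈ associatedPrimes (AdicCompletion J (Aq ⧸ pq)) (AdicCompletion J (Aq ⧸ pq)),
        (2 : WithBot ℕ∞) ≤ ringKrullDim (AdicCompletion J (Aq ⧸ pq) ⧸ P)) →
      ∀ P ∈ associatedPrimes (EGA4.Cpl (Aq ⧸ pq)) (EGA4.Cpl (Aq ⧸ pq)),
        (2 : WithBot ℕ∞) ≤ ringKrullDim (EGA4.Cpl (Aq ⧸ pq) ⧸ P) := by
    intro J hJ h'
    subst hJ
    exact h'
  have hC := key _ (IsLocalRing.map_maximalIdeal_of_surjective _ Ideal.Quotient.mk_surjective) h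
  intro P hP
  let B := EGA4.Cpl Aq
  obtain ⟨e⟩ := FormalFib6.exists_cplQuotEquiv Aq (Aq ⧸ pq) Ideal.Quotient.mk_surjective
  have hJ : p.map (algebraMap A B) = pq.map (algebraMap Aq B) := by
    rw [Ideal.map_map, ← IsScalarTower.algebraMap_eq]
  let φ : B ⧸ p.map (algebraMap A B) ≃+* EGA4.Cpl (Aq ⧸ pq) :=
    (Ideal.quotEquivOfEq hJ).trans ((Algebra.TensorProduct.quotIdealMapEquivTensorQuot B pq).toRingEquiv.trans
      ((Algebra.TensorProduct.comm Aq B (Aq ⧸ pq)).toRingEquiv.trans e.toRingEquiv))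
  rw [← LinearEquiv.AssociatedPrimes.eq (Algebra.TensorProduct.quotIdealMapEquivTensorQuot B p).toLinearEquiv] at hP
  obtain ⟨P', hP', hd⟩ := exists_ass_of_equiv _ φ P hP
  exact hd ▸ hC P' hP'

end Groth.Agent.GrLib8.Cutoff.Kollar
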